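import Mathlib
import Cfsg.Agent.H206.PspFix
import Cfsg.Agent.H934.IdxCl
import Cfsg.Agent.H579.MpoAlg
import Cfsg.Agent.H686.B6.LowSp

/-!
# Automorphisms of `PSp_{2m}(F)` in standard form (helper772, BLOCK 6)

* `D` : the automorphisms induced by the dilations `diag(t, .., t, 1, .., 1)`;
* `exists_std` : `α = inner * D l * phi φ`;
* `exists_levi` : a prime `r` dividing the order of `GL_3(F^σ)` gives an element of order `r` of `PSp_6(F)` fixed by `D t` and
  `phi σ`;
* `orderOf_uu` : the regular unipotent element.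
-/

set_option autoImplicit false

namespace Cfsg.Agent.H772.Six.Sp

open Cfsg
open scoped Matrix
open Cfsg.Agent.ClassicalGeometry.SympBasic Cfsg.Agent.ClassicalGeometry.SympAutSemi
  Cfsg.Agent.ClassicalGeometry.SympGamma Cfsg.Agent.ClassicalGeometry.SympAutExists
open Cfsg.Agent.H206.PspFix (phi frobHom phi_apply)

universe u

variable {F : Type u} [Field F] {m : ℕ}

/-- dilations -/
def dl (m : ℕ) (F : Type u) [Field F] : Fˣ →* semiSim m F where
  toFun t := ⟨dilPerm m t, RingEquiv.refl F, t, t.ne_zero, isSemi_dilPerm t⟩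
  map_one' := Subtype.ext (by
    ext1 v
    funext i
    rcases i with i | i
    · show ((1 : Fˣ) : F) * v (.inl i) = v (.inl i)
      rw [Units.val_one, one_mul]
    · rfl)
  map_mul' s t := Subtype.ext (by
    ext1 v
    funext i
    rcases i with i | i
    · show ((s * t : Fˣ) : F) * v (.inl i) = s * (t * v (.inl i))
      rw [Units.val_mul, mul_assoc]
    · rfl)

/-- the automorphisms induced by the dilations -/
noncomputable def D (m : ℕ) (F : Type u) [Field F] : Fˣ →* MulAut (PSp m F) := (Psi m F).comp (dl m F)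

/-- the symplectic group in the group of semisimilitudes -/
def rh (m : ℕ) (F : Type u) [Field F] : Matrix.symplecticGroup (Fin m) F →* semiSim m F where
  toFun A := ⟨rho m F A, RingEquiv.refl F, 1, one_ne_zero, isSemi_rho A⟩
  map_one' := Subtype.ext (map_one _)
  map_mul' A B := Subtype.ext (map_mul _ A B)

theorem Psi_rh (A : Matrix.symplecticGroup (Fin m) F) :
    Psi m F (rh m F A) = MulAut.conj (QuotientGroup.mk A : PSp m F) := by
  ext x
  induction x using QuotientGroup.induction_on with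
  | H B =>
    rw [Psi_mk]
    have h : conjHom m F (rh m F A) B = A * B * A⁻¹ := by
      apply rho_injective
      rw [rho_conjHom, map_mul, map_mul, map_inv]
      rfl
    rw [h]
    rfl

/-- a semisimilitude commuting with `y` fixes the class of `y` -/
theorem Psi_fix (g : semiSim m F) (y : Matrix.symplecticGroup (Fin m) F)
    (h : ∀ v, g.1 (rho m F y v) = rho m F y (g.1 v)) : Psi m F g (QuotientGroup.mk y) = QuotientGroup.mk y := by
  rw [Psi_mk]
  congr 1
  apply rho_injective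
  rw [rho_conjHom, mul_inv_eq_iff_eq_mul]
  ext1 v
  exact h v

theorem D_fix (t : Fˣ) (A : GL (Fin m) F) :
    D m F t (QuotientGroup.mk (H934.IdxCl.levSp m F A)) = QuotientGroup.mk (H934.IdxCl.levSp m F A) := by
  apply Psi_fix
  intro v
  have h1 : ∀ w, rho m F (H934.IdxCl.levSp m F A) w = H934.IdxCl.lev m F A *ᵥ w := fun w => rfl
  rw [h1, h1]
  rw [H934.IdxCl.lev_mulVec, H934.IdxCl.lev_mulVec]
  funext i
  rcases i with i | i
  · show (t : F) * ((A : Matrix (Fin m) (Fin m) F) *ᵥ (v ∘ Sum.inl)) i =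
      ((A : Matrix (Fin m) (Fin m) F) *ᵥ (dilPerm m t v ∘ Sum.inl)) i
    have h2 : dilPerm m t v ∘ Sum.inl = (t : F) • (v ∘ Sum.inl) := rfl
    rw [h2, Matrix.mulVec_smul]
    rfl
  · rfl

theorem phi_fix (σ : F ≃+* F) (y : Matrix.symplecticGroup (Fin m) F) (hy : ∀ i j, σ (y.1 i j) = y.1 i j) :
    phi m F σ (QuotientGroup.mk y) = QuotientGroup.mk y := by
  apply Psi_fix
  intro v
  have h1 := H966.PSpAut.map_mulVec σ y.1 v
  have h2 : y.1.map σ = y.1 := by
    ext i j
    exact hy i j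
  rw [h2] at h1
  exact h1.symm

theorem isSemi_std (l : Fˣ) (φ : F ≃+* F) : IsSemi (dilPerm m l * frobPerm m φ) φ l := by
  have h := (isSemi_dilPerm (m := m) l).mul (isSemi_frobPerm (m := m) φ)
  have e1 : ((φ.trans (RingEquiv.refl F)) : F ≃+* F) = φ := by ext a; rfl
  have e2 : ((l : F) * (RingEquiv.refl F) 1) = (l : F) := by simp
  rw [e1, e2] at h
  exact h

theorem Psi_inj (hm : 1 ≤ m) {g h : semiSim m F} (hgh : Psi m F g = Psi m F h) : ∃ a : Fˣ, g.1 = h.1 * scal m F a := by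
  have h1 : Psi m F (h⁻¹ * g) = 1 := by rw [map_mul, map_inv, hgh, inv_mul_cancel]
  obtain ⟨a, ha⟩ := exists_scal_of_Psi_eq_one hm _ h1
  refine ⟨a, ?_⟩
  rw [← ha]
  show g.1 = h.1 * (h.1⁻¹ * g.1)
  rw [mul_inv_cancel_left]

/-- an inner automorphism in standard form -/
theorem of_inner (hm : 1 ≤ m) {l : Fˣ} {φ : F ≃+* F} {x : PSp m F} (h : D m F l * phi m F φ = MulAut.conj x) :
    φ = 1 ∧ IsSquare l := by
  obtain ⟨A, rfl⟩ := QuotientGroup.mk_surjective x
  rw [← Psi_rh] at h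
  have h1 : Psi m F (dl m F l * frobHom m F φ) = Psi m F (rh m F A) := by rw [map_mul]; exact h
  obtain ⟨a, ha⟩ := Psi_inj hm h1
  have h2 : IsSemi (dilPerm m l * frobPerm m φ) φ l := isSemi_std l φ
  have h3 : dilPerm m l * frobPerm m φ = rho m F A * scal m F a := ha
  have h4 := (isSemi_rho A).mul (isSemi_scal (m := m) a)
  rw [← h3] at h4
  obtain ⟨e1, e2⟩ := IsSemi.unique hm h2 h4
  refine ⟨?_, a, ?_⟩
  · rw [e1]
    ext b; rfl
  · apply Units.ext
    rw [e2, Units.val_mul]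
    simp

theorem D_injective (hm : 1 ≤ m) : Function.Injective (D m F) := by
  rw [injective_iff_map_eq_one]
  intro t ht
  obtain ⟨a, ha⟩ := exists_scal_of_Psi_eq_one hm (dl m F t) ht
  have h1 : dilPerm m t = scal m F a := ha
  have h2 := congrFun (DFunLike.congr_fun h1 1) (Sum.inr ⟨0, hm⟩)
  have h3 := congrFun (DFunLike.congr_fun h1 1) (Sum.inl ⟨0, hm⟩)
  rw [dilPerm_inr] at h2
  rw [dilPerm_inl] at h3
  have h4 : (1 : F) = a * 1 := h2
  have h5 : (t : F) * 1 = a * 1 := h3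
  apply Units.ext
  rw [mul_one] at h4
  rw [← h4, mul_one, mul_one] at h5
  rw [h5, Units.val_one]

/-- `D (c²)` is inner -/
theorem D_sq (c : Fˣ) : ∃ A : Matrix.symplecticGroup (Fin m) F, D m F (c * c) = MulAut.conj (QuotientGroup.mk A : PSp m F) := by
  have h := (isSemi_scal (m := m) c⁻¹).mul (isSemi_dilPerm (m := m) (c * c))
  have hs : scal m F c ∈ semiSim m F := ⟨_, _, mul_ne_zero c.ne_zero c.ne_zero, isSemi_scal c⟩
  obtain ⟨A, hA⟩ := exists_rho_eq (m := m) (scal m F c⁻¹ * dilPerm m (c * c)) h.1 (by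
    intro a v
    rw [h.2.1]
    rfl) (by
    intro u v
    rw [h.2.2]
    have h1 : ((c⁻¹ : Fˣ) : F) * ((c⁻¹ : Fˣ) : F) * (RingEquiv.refl F) ((c * c : Fˣ) : F) = 1 := by
      have h2 : (RingEquiv.refl F) ((c * c : Fˣ) : F) = ((c * c : Fˣ) : F) := rfl
      rw [h2, ← Units.val_mul, ← Units.val_mul, show c⁻¹ * c⁻¹ * (c * c) = 1 by
        rw [mul_mul_mul_comm, inv_mul_cancel, one_mul], Units.val_one]
    rw [h1, one_mul]
    rfl)
  refine ⟨A, ?_⟩
  rw [← Psi_rh]
  have h1 : dl m F (c * c) = ⟨scal m F c, hs⟩ * rh m F A := by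
    apply Subtype.ext
    show dilPerm m (c * c) = scal m F c * rho m F A
    rw [hA, ← mul_assoc]
    have h2 : scal m F c * scal m F c⁻¹ = 1 := by
      ext1 v
      show (c : F) • (((c⁻¹ : Fˣ) : F) • v) = v
      rw [smul_smul, ← Units.val_mul, mul_inv_cancel, Units.val_one, one_smul]
    rw [h2, one_mul]
  show Psi m F (dl m F (c * c)) = _
  rw [h1, map_mul, Psi_scal, one_mul]

/-- **Standard form.** -/
theorem exists_std [Finite F] (hm : 2 ≤ m) (h : 3 ≤ m ∨ (2 : F) ≠ 0) (α : MulAut (PSp m F)) :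
    ∃ (x : PSp m F) (l : Fˣ) (φ : F ≃+* F), α = MulAut.conj x * (D m F l * phi m F φ) := by
  obtain ⟨g, rfl⟩ := exists_semi hm α (ClassicalGeometry.SympAutOddA.recog hm h α)
  obtain ⟨⟨φ, l, A⟩, rfl⟩ := (par_bijective (F := F) (by omega : 1 ≤ m)).2 g
  refine ⟨QuotientGroup.mk A, l, φ, ?_⟩
  rw [← Psi_rh]
  have h1 : par m F (φ, l, A) = rh m F A * (dl m F l * frobHom m F φ) := Subtype.ext rfl
  rw [h1, map_mul, map_mul]
  rfl

/-- the action of a field automorphism on dilations -/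
theorem phi_D (σ : F ≃+* F) (t : Fˣ) : phi m F σ * D m F t = D m F (Units.map (σ : F →* F) t) * phi m F σ := by
  have h : frobHom m F σ * dl m F t = dl m F (Units.map (σ : F →* F) t) * frobHom m F σ := by
    apply Subtype.ext
    ext1 v
    funext i
    rcases i with i | i
    · show σ ((t : F) * v (.inl i)) = ((Units.map (σ : F →* F) t : Fˣ) : F) * σ (v (.inl i))
      rw [map_mul]
      rfl
    · rfl
  have h1 := congrArg (Psi m F) h
  rw [map_mul, map_mul] at h1
  exact h1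

/-! ### Elements -/

/-- elements of the Levi subgroup over the fixed field -/
theorem exists_levi [Finite F] (σ : F ≃+* F) (K : Subfield F) (hK : ∀ a ∈ K, σ a = a) {r : ℕ} (hr : r.Prime) (hr2 : r ≠ 2)
    (hd : r ∣ Nat.card K ^ 3 - 1) : ∃ y : PSp 3 F, orderOf y = r ∧ phi 3 F σ y = y ∧ ∀ t, D 3 F t y = y := by
  classical
  have := Fact.mk hr
  let _ : Fintype K := Fintype.ofFinite K
  have h1 : r ∣ Nat.card (GL (Fin 3) K) := by
    rw [Matrix.card_GL_field, Fin.prod_univ_three]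
    rw [Nat.card_eq_fintype_card] at hd
    simp only [Fin.val_zero, pow_zero]
    exact (hd.mul_right _).mul_right _
  obtain ⟨A, hA⟩ := exists_prime_orderOf_dvd_card' r h1
  set B : GL (Fin 3) F := Matrix.GeneralLinearGroup.map K.subtype A with hB
  have hBo : orderOf B = r := by
    rw [← hA]
    refine orderOf_injective (Matrix.GeneralLinearGroup.map K.subtype) (fun C C' h => ?_) A
    apply Units.ext
    ext i j
    exact congrFun (congrFun (congrArg (fun X : GL (Fin 3) F => (X : Matrix (Fin 3) (Fin 3) F)) h) i) j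
  set y := H934.IdxCl.levSp 3 F B with hy
  have hyo : orderOf y = r := by
    rw [← hBo]
    exact orderOf_injective (H934.IdxCl.levSp 3 F) H934.IdxCl.levSp_injective B
  have hfixB : ∀ (C : GL (Fin 3) K) i j, σ ((Matrix.GeneralLinearGroup.map K.subtype C).1 i j) =
      (Matrix.GeneralLinearGroup.map K.subtype C).1 i j := fun C i j => hK _ (C.1 i j).2
  refine ⟨QuotientGroup.mk y, ?_, ?_, fun t => D_fix t B⟩
  · apply orderOf_eq_prime
    · rw [← QuotientGroup.mk_pow, ← hyo, pow_orderOf_eq_one]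
      rfl
    · intro h
      rw [QuotientGroup.eq_one_iff] at h
      have h2 : y ^ 2 = 1 := by
        apply Subtype.ext
        show y.1 ^ 2 = 1
        rcases ClassicalGeometry.SympInvolutions.center_eq h with h3 | h3
        · rw [h3, one_pow]
        · rw [h3, neg_one_sq]
      have h3 := orderOf_dvd_of_pow_eq_one h2
      rw [hyo] at h3
      exact hr2 ((Nat.prime_dvd_prime_iff_eq hr Nat.prime_two).1 h3)
  · apply phi_fix
    intro i j
    have e : y.1 = Matrix.fromBlocks (B : Matrix (Fin 3) (Fin 3) F) 0 0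
      (((B⁻¹ : GL (Fin 3) F) : Matrix (Fin 3) (Fin 3) F)ᵀ) := rfl
    have hBi : B⁻¹ = Matrix.GeneralLinearGroup.map K.subtype A⁻¹ := by rw [hB, map_inv]
    rw [e]
    rcases i with i | i <;> rcases j with j | j
    · exact hfixB A i j
    · exact map_zero σ
    · exact map_zero σ
    · show σ ((B⁻¹).1 j i) = (B⁻¹).1 j i
      rw [hBi]
      exact hfixB A⁻¹ j i

/-- the regular unipotent element -/
theorem exists_unip (p : ℕ) [Fact p.Prime] [CharP F p] (k : ℕ) (h1 : p ^ k ≤ 5) (h2 : 6 ≤ p ^ (k + 1)) :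
    ∃ y : PSp 3 F, orderOf y = p ^ (k + 1) ∧ ∀ σ : F ≃+* F, phi 3 F σ y = y := by
  obtain ⟨u1, u2, u3, u4⟩ := H686.B6.uZ_facts
  let f : Matrix (Fin 3 ⊕ Fin 3) (Fin 3 ⊕ Fin 3) ℤ →+* Matrix (Fin 3 ⊕ Fin 3) (Fin 3 ⊕ Fin 3) F :=
    (Int.castRingHom F).mapMatrix
  have hJ : f (Matrix.J (Fin 3) ℤ) = Matrix.J (Fin 3) F := by
    ext i j
    rcases i with i | i <;> rcases j with j | j <;>
      simp [f, Matrix.J, Matrix.one_apply, apply_ite]
  have hT : f H686.B6.uZᵀ = (f H686.B6.uZ)ᵀ := rfl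
  have hmem : f H686.B6.uZ ∈ Matrix.symplecticGroup (Fin 3) F := by
    rw [SymplecticGroup.mem_iff, ← hT, ← hJ, ← map_mul, ← map_mul, u1]
  let u : Matrix.symplecticGroup (Fin 3) F := ⟨f H686.B6.uZ, hmem⟩
  have hN6 : (f H686.B6.uZ - 1) ^ 6 = 0 := by
    rw [← map_one f, ← map_sub, ← map_pow, u2, map_zero]
  have hp : ∀ k : ℕ, (f H686.B6.uZ) ^ p ^ k = (f H686.B6.uZ - 1) ^ p ^ k + 1 := by
    intro k
    have := sub_pow_char_pow_of_commute (R := Matrix (Fin 3 ⊕ Fin 3) (Fin 3 ⊕ Fin 3) F) (p := p) (n := k)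
      (Commute.one_right (f H686.B6.uZ))
    rw [this, one_pow, sub_add_cancel]
  refine ⟨QuotientGroup.mk u, orderOf_eq_prime_pow ?_ ?_, fun σ => phi_fix σ u fun i j => ?_⟩
  · intro h
    rw [← QuotientGroup.mk_pow, QuotientGroup.eq_one_iff] at h
    have e5 : ((u ^ p ^ k : Matrix.symplecticGroup (Fin 3) F)).1 = (f H686.B6.uZ - 1) ^ p ^ k + 1 := by
      rw [← hp]; rfl
    have hc : ∃ c : F, (f H686.B6.uZ - 1) ^ p ^ k = c • (1 : Matrix (Fin 3 ⊕ Fin 3) (Fin 3 ⊕ Fin 3) F) := by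
      rcases ClassicalGeometry.SympInvolutions.center_eq h with h6 | h6
      · rw [e5] at h6
        exact ⟨0, by rw [zero_smul]; exact add_eq_right.1 h6⟩
      · rw [e5] at h6
        refine ⟨-2, ?_⟩
        rw [eq_sub_of_add_eq h6, neg_smul, two_smul]
        abel
    obtain ⟨c, hc⟩ := hc
    have hc0 : c = 0 := by
      have h7 : ((f H686.B6.uZ - 1) ^ p ^ k) ^ 6 = 0 := by
        rw [← pow_mul, mul_comm, pow_mul, hN6, zero_pow (pow_pos (Fact.out : p.Prime).pos k).ne']
      rw [hc, smul_pow, one_pow] at h7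
      have h8 := congrFun (congrFun h7 (Sum.inl 0)) (Sum.inl 0)
      rw [Matrix.smul_apply, Matrix.one_apply_eq, Matrix.zero_apply, smul_eq_mul, mul_one] at h8
      exact pow_eq_zero_iff (by norm_num) |>.1 h8
    have h9 : (f H686.B6.uZ - 1) ^ 5 = 0 := by
      obtain ⟨j, hj⟩ := Nat.exists_eq_add_of_le h1
      rw [hj, pow_add, hc, hc0, zero_smul, zero_mul]
    have e1 : ((f H686.B6.uZ - 1) ^ 5 : Matrix (Fin 3 ⊕ Fin 3) (Fin 3 ⊕ Fin 3) F) (Sum.inl 0) (Sum.inr 0) = 1 := by
      rw [← map_one f, ← map_sub, ← map_pow]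
      show ((((H686.B6.uZ - 1) ^ 5 : Matrix (Fin 3 ⊕ Fin 3) (Fin 3 ⊕ Fin 3) ℤ) (Sum.inl 0) (Sum.inr 0) : ℤ) : F) = 1
      rw [u3, Int.cast_one]
    rw [h9] at e1
    exact one_ne_zero e1.symm
  · rw [← QuotientGroup.mk_pow, QuotientGroup.eq_one_iff]
    have : u ^ p ^ (k + 1) = 1 := by
      apply Subtype.ext
      show (f H686.B6.uZ) ^ p ^ (k + 1) = 1
      obtain ⟨j, hj⟩ := Nat.exists_eq_add_of_le h2
      rw [hp, hj, pow_add, hN6, zero_mul, zero_add]
    rw [this]
    exact Subgroup.one_mem _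
  · show σ ((H686.B6.uZ i j : ℤ) : F) = ((H686.B6.uZ i j : ℤ) : F)
    exact map_intCast σ _

end Cfsg.Agent.H772.Six.Sp
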