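import Cfsg.Agent.H376.Six.Top
import Cfsg.Agent.SignalizersComponents.NoFixedGen

/-!
# All primes of the radical are top primes (helper772, BLOCK 6, task 2693)

* `exists_fix` : an element `y` of prime order `c` (not a Fermat prime) which does not centralise `N / V` has a fixed
  point on the `t`-group `V`, when the solvable group `N` acts on `V` as a group of order prime to `t` and `c`;
* `exists_data` : the smallest normal subgroup of `K` of index prime to `t` and the centraliser of its top factor;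
* `top_prime` : task 2693.
-/

set_option autoImplicit false

namespace Cfsg.Agent.H772.Six.TopPrime

open Subgroup
open Cfsg.Agent.SignalizersComponents.LocalGlobal (NoFixed)
open Cfsg.Agent.SignalizersComponents.InvariantHall (PiNum)
open scoped commutatorElement

universe u

/-! ### Orders -/

/-- element orders of quotients divide element orders -/
theorem exists_orderOf_of_quotient {G : Type u} [Group G] [Finite G] (N : Subgroup G) [N.Normal] {m : ℕ}
    (h : ∃ x : G ⧸ N, orderOf x = m) : ∃ x : G, orderOf x = m := by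
  obtain ⟨x, hx⟩ := h
  obtain ⟨x, rfl⟩ := QuotientGroup.mk_surjective x
  have h1 : m ∣ orderOf x := by
    rw [← hx]
    exact orderOf_map_dvd (QuotientGroup.mk' N) x
  obtain ⟨j, hj⟩ := h1
  have hj0 : 0 < j := by
    have := orderOf_pos x
    rw [hj] at this
    exact Nat.pos_of_mul_pos_left this |> fun h => h
  refine ⟨x ^ j, ?_⟩
  rw [orderOf_pow, hj, Nat.gcd_mul_left_left, Nat.mul_div_cancel _ hj0]

/-- commuting elements of different prime orders -/
theorem orderOf_mul_of {G : Type*} [Group G] {x y : G} {p q : ℕ} (hp : p.Prime) (hq : q.Prime) (hpq : p ≠ q)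
    (hx : x ^ p = 1) (hx1 : x ≠ 1) (hy : y ^ q = 1) (hy1 : y ≠ 1) (h : x * y = y * x) : orderOf (x * y) = p * q := by
  have := Fact.mk hp
  have := Fact.mk hq
  have h1 : orderOf x = p := orderOf_eq_prime hx hx1
  have h2 : orderOf y = q := orderOf_eq_prime hy hy1
  have h3 : Commute x y := h
  rw [h3.orderOf_mul_eq_mul_orderOf_of_coprime (by rw [h1, h2]; exact (Nat.coprime_primes hp hq).2 hpq), h1, h2]

/-- lifting an element of prime order modulo a `p'`-group, inside a subgroup -/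
theorem exists_lift {G : Type u} [Group G] [Finite G] (K : Subgroup G) [K.Normal] {p : ℕ} (hp : p.Prime)
    (hK : ¬ p ∣ Nat.card K) (D : Subgroup G) {z : G ⧸ K} (hz : orderOf z = p) (hD : ∃ g ∈ D, (g : G ⧸ K) = z) :
    ∃ x ∈ D, x ^ p = 1 ∧ x ∉ K ∧ (x : G ⧸ K) ∈ zpowers z := by
  obtain ⟨g, hgD, rfl⟩ := hD
  obtain ⟨e, m, hm, hem⟩ := Nat.exists_eq_pow_mul_and_not_dvd (orderOf_pos g).ne' p hp.ne_one
  have hxo : orderOf (g ^ m) ∣ p ^ e := by
    apply orderOf_dvd_of_pow_eq_one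
    rw [← pow_mul, mul_comm, ← hem, pow_orderOf_eq_one]
  have hxp : (g ^ m) ^ p ∈ K := by
    rw [← QuotientGroup.eq_one_iff, QuotientGroup.mk_pow, QuotientGroup.mk_pow, ← pow_mul, mul_comm, pow_mul, ← hz,
      pow_orderOf_eq_one, one_pow]
  refine ⟨g ^ m, D.pow_mem hgD m, ?_, ?_, ?_⟩
  · rw [← orderOf_eq_one_iff]
    have h1 : orderOf ((g ^ m) ^ p) ∣ Nat.card K := by
      have h2 := orderOf_dvd_natCard (⟨_, hxp⟩ : K)
      rwa [Subgroup.orderOf_mk] at h2
    have h2 : orderOf ((g ^ m) ^ p) ∣ p ^ e := (orderOf_pow_dvd p).trans hxo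
    exact Nat.eq_one_of_dvd_coprimes (Nat.Coprime.pow_left e ((hp.coprime_iff_not_dvd).2 hK)) h2 h1
  · intro h
    rw [← QuotientGroup.eq_one_iff, QuotientGroup.mk_pow] at h
    have h1 := orderOf_dvd_of_pow_eq_one h
    rw [hz] at h1
    exact hm h1
  · rw [QuotientGroup.mk_pow]
    exact (zpowers (g : G ⧸ K)).pow_mem (mem_zpowers _) m

/-! ### The fixed point -/

/-- **Fixed points.** -/
theorem exists_fix {Γ : Type u} [Group Γ] [Finite Γ] (V N : Subgroup Γ) [V.Normal] [N.Normal] {t c : ℕ} (ht : t.Prime)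
    (hc : c.Prime) (htc : t ≠ c) (hF : ∀ m : ℕ, m ≠ 0 → c ≠ 2 ^ m + 1) (hV : IsPGroup t V) (hN : Group.IsSolvable N)
    {n : ℕ} (hn : n.Coprime t) (hNV : ∀ x ∈ N, ∀ v ∈ V, x ^ n * v = v * x ^ n) (hcN : ¬ c ∣ Nat.card N)
    (hCV : ∀ x ∈ N, (∀ v ∈ V, x * v = v * x) → x ∈ V) (y : Γ) (hy : y ^ c = 1)
    (hy' : ∃ k ∈ N, y * k * y⁻¹ * k⁻¹ ∉ V) : ∃ v ∈ V, v ≠ 1 ∧ y * v = v * y := by
  classical
  by_contra hcon
  push Not at hcon
  have hfin : Finite (MulAut V) := inferInstance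
  have hfin' : Finite (V ⋊[MonoidHom.id (MulAut V)] MulAut V) :=
    Finite.of_equiv _ (SemidirectProduct.equivProd (φ := MonoidHom.id (MulAut V))).symm
  let φ : Γ →* MulAut V := MulAut.conjNormal
  have hφ : ∀ (g : Γ) (v : V), ((φ g v : V) : Γ) = g * v * g⁻¹ := fun g v => MulAut.conjNormal_apply g v
  let Λ := V ⋊[MonoidHom.id (MulAut V)] MulAut V
  let inlV : V →* Λ := SemidirectProduct.inl
  let inrV : MulAut V →* Λ := SemidirectProduct.inr
  let ψ : Γ →* Λ := inrV.comp φ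
  have hact : ∀ (g : Γ) (v : V), ψ g * inlV v * (ψ g)⁻¹ = inlV (φ g v) := by
    intro g v
    have h := SemidirectProduct.inl_aut (φ := MonoidHom.id (MulAut V)) (φ g) v
    have h2 : (SemidirectProduct.inr (φ g)⁻¹ : Λ) = (ψ g)⁻¹ := map_inv inrV (φ g)
    rw [h2] at h
    exact h.symm
  have hVn : (inlV.range).Normal := by
    have : inlV.range = (SemidirectProduct.rightHom (φ := MonoidHom.id (MulAut V))).ker :=
      SemidirectProduct.range_inl_eq_ker_rightHom
    rw [this]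
    infer_instance
  set X := N.map ψ with hX
  have hXn : ∀ x ∈ X, x ^ n = 1 := by
    rintro _ ⟨k, hk, rfl⟩
    have h1 : φ (k ^ n) = 1 := by
      ext v
      rw [hφ, MulAut.one_apply, hNV k hk v v.2, mul_inv_cancel_right]
    show (inrV (φ k)) ^ n = 1
    rw [← map_pow, ← map_pow, h1, map_one]
  have hXt : ¬ t ∣ Nat.card X := by
    intro h
    have := Fact.mk ht
    obtain ⟨x, hx⟩ := exists_prime_orderOf_dvd_card' t h
    have h1 : x ^ n = 1 := Subtype.ext (hXn _ x.2)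
    have h2 := orderOf_dvd_of_pow_eq_one h1
    rw [hx] at h2
    have h3 := Nat.dvd_gcd h2 dvd_rfl
    rw [hn] at h3
    exact ht.one_lt.ne' (Nat.dvd_one.1 h3)
  have hXs : Group.IsSolvable X :=
    Group.isSolvable_of_surjective (f := ψ.subgroupMap N) (ψ.subgroupMap_surjective N)
  have hXc : ¬ c ∣ Nat.card X := fun h => hcN (h.trans (Subgroup.card_map_dvd _ _))
  have hmain := Cfsg.Agent.SignalizersComponents.NoFixedGen.noFixed_of_not_fermat hc hF ({p | p ≠ t} : Set ℕ) Λ inlV.range X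
    (ψ y) t ht (by simp) htc (hV.of_surjective inlV.rangeRestrict inlV.rangeRestrict_surjective) hXs
    (by
      intro p hp hpX
      rintro rfl
      exact hXt hpX) hXc (by rw [← map_pow, hy, map_one]) (by rw [normalizer_eq_top]; trivial)
    (by
      rw [mem_normalizer_iff]
      intro x
      constructor
      · rintro ⟨k, hk, rfl⟩
        exact ⟨y * k * y⁻¹, ‹N.Normal›.conj_mem k hk y, by rw [map_mul, map_mul, map_inv]⟩
      · rintro ⟨k, hk, hkx⟩
        refine ⟨y⁻¹ * k * y, by simpa using ‹N.Normal›.conj_mem k hk y⁻¹, ?_⟩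
        rw [map_mul, map_mul, map_inv, hkx]
        group)
    (by rw [normalizer_eq_top]; exact le_top)
    (by
      rw [eq_bot_iff]
      rintro _ ⟨⟨v, rfl⟩, hv⟩
      have h1 : ψ y * inlV v = inlV v * ψ y := (mem_centralizer_iff.1 hv) _ rfl
      have h2 : inlV (φ y v) = inlV v := by
        rw [← hact, h1, mul_inv_cancel_right]
      have h3 : φ y v = v := SemidirectProduct.inl_injective h2
      have h4 : y * v = v * y := by
        have h5 := congrArg Subtype.val h3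
        rw [hφ] at h5
        exact mul_inv_eq_iff_eq_mul.1 h5
      by_contra hne
      refine hcon v v.2 (fun hv1 => hne ?_) h4
      have : v = 1 := Subtype.ext hv1
      rw [this, map_one]
      exact Subgroup.mem_bot.2 rfl)
  obtain ⟨k, hk, hky⟩ := hy'
  apply hky
  apply hCV
  · have h1 : y * k * y⁻¹ ∈ N := ‹N.Normal›.conj_mem k hk y
    exact N.mul_mem h1 (N.inv_mem hk)
  · intro v hv
    have h1 : ⁅ψ k, ψ y⁆ ∈ centralizer (inlV.range : Set Λ) :=
      hmain (Subgroup.commutator_mem_commutator ⟨k, hk, rfl⟩ (mem_zpowers _))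
    have h2 : (⁅ψ k, ψ y⁆)⁻¹ ∈ centralizer (inlV.range : Set Λ) := inv_mem h1
    have h3 : (⁅ψ k, ψ y⁆)⁻¹ = ψ (y * k * y⁻¹ * k⁻¹) := by
      rw [commutatorElement_inv, commutatorElement_def]
      simp only [map_mul, map_inv]
    rw [h3] at h2
    have h4 := (mem_centralizer_iff.1 h2) (inlV ⟨v, hv⟩) ⟨_, rfl⟩
    have h5 : inlV (φ (y * k * y⁻¹ * k⁻¹) ⟨v, hv⟩) = inlV ⟨v, hv⟩ := by
      rw [← hact, ← h4, mul_inv_cancel_right]
    have h6 := congrArg Subtype.val (SemidirectProduct.inl_injective h5)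
    rw [hφ] at h6
    exact mul_inv_eq_iff_eq_mul.1 h6

/-! ### The transfer to the centre -/

theorem mul_pow_of_center {Q : Type u} [Group Q] [Finite Q] {n : ℕ} (hn : (center Q).index ∣ n) (x y : Q) :
    (x * y) ^ n = x ^ n * y ^ n := by
  have h1 : ∀ x y : Q, (x * y) ^ (center Q).index = x ^ (center Q).index * y ^ (center Q).index := by
    intro x y
    have h := congrArg Subtype.val (map_mul (MonoidHom.transferCenterPow Q) x y)
    rwa [MonoidHom.transferCenterPow_apply, Subgroup.coe_mul, MonoidHom.transferCenterPow_apply,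
      MonoidHom.transferCenterPow_apply] at h
  obtain ⟨j, rfl⟩ := hn
  rw [pow_mul, h1, Commute.mul_pow, pow_mul, pow_mul]
  exact ((mem_center_iff.1 ((center Q).pow_index_mem x)) _).symm

/-- the `n`-th power is multiplicative on `C` modulo `B` -/
theorem mul_pow_mod {G : Type u} [Group G] [Finite G] {A B C : Subgroup G} [B.Normal] (hBA : B ≤ A) (hAC : A ≤ C)
    (hc : ∀ x ∈ C, ∀ v ∈ A, (x : G ⧸ B) * v = v * x) {n : ℕ} (hn : A.relIndex C ∣ n) (x y : G) (hx : x ∈ C)
    (hy : y ∈ C) : ((x * y : G) : G ⧸ B) ^ n = (x : G ⧸ B) ^ n * (y : G ⧸ B) ^ n := by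
  set Q := C.map (QuotientGroup.mk' B) with hQ
  have h1 : (center Q).index ∣ n := by
    refine dvd_trans ?_ hn
    have h2 : (A.map (QuotientGroup.mk' B)).subgroupOf Q ≤ center Q := by
      intro v hv
      rw [mem_subgroupOf] at hv
      obtain ⟨v', hv', hv''⟩ := hv
      rw [mem_center_iff]
      rintro ⟨_, x, hx, rfl⟩
      apply Subtype.ext
      show (QuotientGroup.mk' B x) * (v : G ⧸ B) = v * QuotientGroup.mk' B x
      rw [← hv'']
      exact hc x hx v' hv'
    have h3 := index_dvd_of_le h2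
    have h4 : ((A.map (QuotientGroup.mk' B)).subgroupOf Q).index = A.relIndex C := by
      show (A.map (QuotientGroup.mk' B)).relIndex (C.map (QuotientGroup.mk' B)) = _
      rw [relIndex_map_map, QuotientGroup.ker_mk', sup_of_le_left hBA, sup_of_le_left (hBA.trans hAC)]
    rwa [h4] at h3
  have h2 := mul_pow_of_center h1 (⟨_, x, hx, rfl⟩ : Q) (⟨_, y, hy, rfl⟩ : Q)
  have h3 := congrArg Subtype.val h2
  exact h3

/-! ### The structure of the top -/

/-- the data: `B < A ≤ C ≤ K`, `A / B` of exponent `t`, `E ≤ C` -/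
theorem exists_data {G : Type u} [Group G] [Finite G] (K : Subgroup G) [K.Normal] (hK : Group.IsSolvable ↥K) {t : ℕ}
    (ht : t.Prime) (htK : t ∣ Nat.card ↥K) :
    ∃ (C E : Subgroup G) (_ : C.Normal) (_ : E.Normal) (n : ℕ), C ≤ K ∧ E < C ∧ n.Coprime t ∧ (∀ x ∈ C, x ^ t ∈ E) ∧
      (∀ x ∈ C, ∀ y ∈ C, x * y * x⁻¹ * y⁻¹ ∈ E) ∧ (∀ x ∈ K, x ^ n ∈ C) ∧
      (∀ x ∈ K, (∀ y ∈ C, x * y * x⁻¹ * y⁻¹ ∈ E) → x ∈ C) := by
  -- the minimal normal subgroup of index prime to `t`
  have hfin : (Set.Finite {A : Subgroup G | A.Normal ∧ A ≤ K ∧ ¬ t ∣ A.relIndex K}) := Set.toFinite _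
  obtain ⟨A, hA⟩ := hfin.exists_minimal ⟨K, ‹K.Normal›, le_rfl, by
    rw [relIndex_self]
    exact fun h => ht.one_lt.ne' (Nat.dvd_one.1 h)⟩
  obtain ⟨hAn, hAK, hAt⟩ := hA.prop
  have hA1 : A ≠ ⊥ := by
    rintro rfl
    rw [relIndex_bot_left] at hAt
    exact hAt htK
  have hAs : Group.IsSolvable A := 
    Group.isSolvable_of_isSolvable_injective (f := Subgroup.inclusion hAK) (Subgroup.inclusion_injective hAK)
  obtain ⟨B, hBn, t', ht', hBA, hpow, hcomm⟩ := Cfsg.Agent.H376.Six.exists_top A hAs hA1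
  have htt : t' = t := by
    by_contra hne
    have h1 : ¬ t ∣ B.relIndex A := by
      intro h
      have hcard : Nat.card ↥(A.map (QuotientGroup.mk' B)) = B.relIndex A := by
        have h3 := Subgroup.relIndex_ker A (QuotientGroup.mk' B)
        rw [QuotientGroup.ker_mk'] at h3
        exact h3.symm
      have hf := Fact.mk ht
      obtain ⟨z, hz⟩ := exists_prime_orderOf_dvd_card' (G := ↥(A.map (QuotientGroup.mk' B))) t (by rw [hcard]; exact h)
      obtain ⟨x, hx, hxz⟩ := z.2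
      have h4 : z ^ t' = 1 := by
        apply Subtype.ext
        show (z : G ⧸ B) ^ t' = 1
        rw [← hxz, ← map_pow]
        exact (QuotientGroup.eq_one_iff _).2 (hpow x hx)
      have h5 := orderOf_dvd_of_pow_eq_one h4
      rw [hz] at h5
      exact hne ((Nat.prime_dvd_prime_iff_eq ht ht').1 h5).symm
    have h2 : ¬ t ∣ B.relIndex K := by
      rw [← relIndex_mul_relIndex B A K hBA.le hAK]
      intro h
      rcases ht.dvd_mul.1 h with h | h
      · exact h1 h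
      · exact hAt h
    exact absurd (hA.le_of_le ⟨hBn, hBA.le.trans hAK, h2⟩ hBA.le) (not_le_of_gt hBA)
  subst htt
  set n := A.relIndex K with hn
  have hnt : n.Coprime t' := ((Nat.Prime.coprime_iff_not_dvd ht).2 hAt).symm
  -- `C`
  let f : G →* G ⧸ B := QuotientGroup.mk' B
  have hfn : (A.map f).Normal := hAn.map f (QuotientGroup.mk'_surjective B)
  let C : Subgroup G := K ⊓ (centralizer (A.map f : Set (G ⧸ B))).comap f
  have hCn : C.Normal := by
    have : (centralizer (A.map f : Set (G ⧸ B))).Normal := inferInstance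
    have : ((centralizer (A.map f : Set (G ⧸ B))).comap f).Normal := inferInstance
    exact Subgroup.normal_inf_normal K _
  have hmem : ∀ x, x ∈ C ↔ x ∈ K ∧ ∀ v ∈ A, x * v * x⁻¹ * v⁻¹ ∈ B := by
    intro x
    constructor
    · rintro ⟨hx, hx'⟩
      refine ⟨hx, fun v hv => ?_⟩
      rw [← QuotientGroup.eq_one_iff]
      have h1 := (mem_centralizer_iff.1 hx') (f v) ⟨v, hv, rfl⟩
      show f (x * v * x⁻¹ * v⁻¹) = 1
      rw [map_mul, map_mul, map_mul, ← h1, map_inv, map_inv]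
      group
    · rintro ⟨hx, hx'⟩
      refine ⟨hx, ?_⟩
      show f x ∈ centralizer (A.map f : Set (G ⧸ B))
      rw [mem_centralizer_iff]
      rintro _ ⟨v, hv, rfl⟩
      have h1 : f (x * v * x⁻¹ * v⁻¹) = 1 := (QuotientGroup.eq_one_iff _).2 (hx' v hv)
      rw [map_mul, map_mul, map_mul, map_inv, map_inv] at h1
      have h2 := mul_inv_eq_one.1 h1
      exact (mul_inv_eq_iff_eq_mul.1 h2).symm
  have hAC : A ≤ C := fun x hx => (hmem x).2 ⟨hAK hx, fun v hv => hcomm x hx v hv⟩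
  have hcent : ∀ x ∈ C, ∀ v ∈ A, (x : G ⧸ B) * v = v * x := by
    intro x hx v hv
    exact ((mem_centralizer_iff.1 hx.2) (f v) ⟨v, hv, rfl⟩).symm
  have hidx : A.relIndex C ∣ n := by
    rw [hn, ← relIndex_mul_relIndex A C K hAC inf_le_left]
    exact dvd_mul_right _ _
  have hpm := fun x y => mul_pow_mod hBA.le hAC hcent hidx x y
  have hpA : ∀ x ∈ K, x ^ n ∈ A := fun x hx => A.pow_relIndex_mem hx
  -- `E`
  let E : Subgroup G :=
    { carrier := {x | x ∈ C ∧ x ^ n ∈ B}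
      one_mem' := ⟨C.one_mem, by rw [one_pow]; exact B.one_mem⟩
      mul_mem' := by
        rintro x y ⟨hx, hx'⟩ ⟨hy, hy'⟩
        refine ⟨C.mul_mem hx hy, ?_⟩
        rw [← QuotientGroup.eq_one_iff, QuotientGroup.mk_pow] at hx' hy' ⊢
        rw [hpm x y hx hy, hx', hy', one_mul]
      inv_mem' := by
        rintro x ⟨hx, hx'⟩
        exact ⟨C.inv_mem hx, by rw [inv_pow]; exact B.inv_mem hx'⟩ }
  have hEn : E.Normal := ⟨by
    rintro x ⟨hx, hx'⟩ g
    refine ⟨hCn.conj_mem x hx g, ?_⟩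
    rw [conj_pow]
    exact hBn.conj_mem _ hx' g⟩
  have hEC : E ≤ C := fun x hx => hx.1
  have hEA : ∀ x ∈ E, x ∈ A → x ∈ B := by
    rintro x ⟨hx, hx'⟩ hxA
    rw [← QuotientGroup.eq_one_iff] at hx' ⊢
    have h1 : (x : G ⧸ B) ^ t' = 1 := by
      rw [← QuotientGroup.mk_pow]
      exact (QuotientGroup.eq_one_iff _).2 (hpow x hxA)
    rw [QuotientGroup.mk_pow] at hx'
    have h2 := Nat.dvd_gcd (orderOf_dvd_of_pow_eq_one hx') (orderOf_dvd_of_pow_eq_one h1)
    rw [hnt] at h2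
    exact orderOf_eq_one_iff.1 (Nat.dvd_one.1 h2)
  refine ⟨C, E, hCn, hEn, n, inf_le_left, lt_of_le_of_ne hEC ?_, hnt, ?_, ?_, fun x hx => hAC (hpA x hx), ?_⟩
  · intro h
    exact absurd (fun x hx => hEA x (h ▸ hAC hx) hx) (not_le_of_gt hBA)
  · intro x hx
    refine ⟨C.pow_mem hx _, ?_⟩
    rw [← pow_mul, mul_comm, pow_mul]
    exact hpow _ (hpA x hx.1)
  · intro x hx y hy
    refine ⟨C.mul_mem (C.mul_mem (C.mul_mem hx hy) (C.inv_mem hx)) (C.inv_mem hy), ?_⟩
    rw [← QuotientGroup.eq_one_iff, QuotientGroup.mk_pow,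
      hpm _ _ (C.mul_mem (C.mul_mem hx hy) (C.inv_mem hx)) (C.inv_mem hy), hpm _ _ (C.mul_mem hx hy) (C.inv_mem hx),
      hpm _ _ hx hy]
    have h1 := hcent y hy (x ^ n) (hpA x hx.1)
    rw [QuotientGroup.mk_pow] at h1
    have h2 : Commute (y : G ⧸ B) ((x : G ⧸ B) ^ n) := h1
    have h3 : (y : G ⧸ B) ^ n * (x : G ⧸ B) ^ n = (x : G ⧸ B) ^ n * (y : G ⧸ B) ^ n := (h2.pow_left n)
    rw [QuotientGroup.mk_inv, QuotientGroup.mk_inv, inv_pow, inv_pow, ← h3, mul_inv_cancel_right, mul_inv_cancel]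
  · intro x hx h
    refine (hmem x).2 ⟨hx, fun v hv => ?_⟩
    refine hEA _ (h v (hAC hv)) ?_
    exact A.mul_mem (hAn.conj_mem v hv x) (A.inv_mem hv)

/-- `3 ∣ c - 1` : `c` is not a Fermat prime -/
theorem not_fermat {c : ℕ} (h : 3 ∣ c - 1) (m : ℕ) (_hm : m ≠ 0) : c ≠ 2 ^ m + 1 := by
  rintro rfl
  rw [Nat.add_sub_cancel] at h
  exact absurd (Nat.prime_three.dvd_of_dvd_pow h) (by norm_num)

/-- a commutator lies in a normal subgroup iff the images commute -/
theorem comm_mod {G : Type u} [Group G] (N : Subgroup G) [N.Normal] (x y : G) :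
    x * y * x⁻¹ * y⁻¹ ∈ N ↔ (x : G ⧸ N) * y = y * x := by
  rw [← QuotientGroup.eq_one_iff, QuotientGroup.mk_mul, QuotientGroup.mk_mul, QuotientGroup.mk_mul,
    QuotientGroup.mk_inv, QuotientGroup.mk_inv, mul_inv_eq_one, mul_inv_eq_iff_eq_mul]

/-- **All primes of the radical are top primes.** (`S` need not be noncommutative) -/
theorem top_prime' {G : Type u} [Group G] [Finite G] (K : Subgroup G) [K.Normal] (hK : Group.IsSolvable ↥K)
    (S : Subgroup (G ⧸ K)) [S.Normal] (hS : IsSimpleGroup ↥S) {a b : ℕ} (ha : a.Prime) (hb : b.Prime)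
    (ha3 : 3 ∣ a - 1) (hb3 : 3 ∣ b - 1) (haS : a ∣ Nat.card ↥S) (hbS : b ∣ Nat.card ↥S) (haK : ¬ a ∣ Nat.card ↥K)
    (hbK : ¬ b ∣ Nat.card ↥K)
    (hab : ∀ t : ℕ, t.Prime → t ∣ Nat.card ↥K → ¬ ((∃ g : G, orderOf g = t * a) ∧ ∃ g : G, orderOf g = t * b))
    {t : ℕ} (ht : t.Prime) (htK : t ∣ Nat.card ↥K) :
    ∃ (K₁ : Subgroup G) (_ : K₁.Normal), K₁ < K ∧ (∀ x ∈ K, x ^ t ∈ K₁) ∧
      (∀ x ∈ K, ∀ y ∈ K, x * y * x⁻¹ * y⁻¹ ∈ K₁) := by
  obtain ⟨C, E, hC, hE, n, hCK, hEC, hn, hpt, hcomm, hKn, hCC⟩ := exists_data K hK ht htK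
  by_cases hCK' : C = K
  · subst hCK'
    exact ⟨E, hE, hEC, hpt, hcomm⟩
  exfalso
  have hCK2 : C < K := lt_of_le_of_ne hCK hCK'
  -- the dichotomy for a prime `c`
  have hdich : ∀ c : ℕ, c.Prime → 3 ∣ c - 1 → ¬ c ∣ Nat.card ↥K → (∃ g : G, orderOf g = t * c) ∨
      ∀ y : G, y ^ c = 1 → ∀ k ∈ K, y * k * y⁻¹ * k⁻¹ ∈ C := by
    intro c hc hc3 hcK
    by_cases hcase : ∀ y : G, y ^ c = 1 → ∀ k ∈ K, y * k * y⁻¹ * k⁻¹ ∈ C
    · exact Or.inr hcase
    left
    push Not at hcase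
    obtain ⟨y, hy, k, hk, hyk⟩ := hcase
    have htc : t ≠ c := by
      rintro rfl
      exact hcK htK
    let f : G →* G ⧸ E := QuotientGroup.mk' E
    have hfs : Function.Surjective f := QuotientGroup.mk'_surjective E
    have hVn : (C.map f).Normal := hC.map f hfs
    have hNn : (K.map f).Normal := ‹K.Normal›.map f hfs
    have hback : ∀ x : G, f x ∈ C.map f → x ∈ C := by
      rintro x ⟨x', hx', hxx⟩
      have h1 : x'⁻¹ * x ∈ E := QuotientGroup.eq.1 hxx
      have h2 := C.mul_mem hx' (hEC.le h1)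
      rwa [mul_inv_cancel_left] at h2
    have hmain := exists_fix (C.map f) (K.map f) ht hc htc (not_fermat hc3) (by
      rintro ⟨_, x, hx, rfl⟩
      refine ⟨1, ?_⟩
      apply Subtype.ext
      show (f x) ^ t ^ 1 = 1
      rw [pow_one, ← map_pow]
      exact (QuotientGroup.eq_one_iff _).2 (hpt x hx))
      (Group.isSolvable_of_surjective (f := f.subgroupMap K) (f.subgroupMap_surjective K)) hn (by
      rintro _ ⟨x, hx, rfl⟩ _ ⟨v, hv, rfl⟩
      rw [← map_pow]
      exact (comm_mod E _ _).1 (hcomm _ (hKn x hx) v hv)) (fun h => hcK (h.trans (Subgroup.card_map_dvd _ _))) (by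
      rintro _ ⟨x, hx, rfl⟩ h
      refine ⟨x, hCC x hx fun v hv => ?_, rfl⟩
      exact (comm_mod E _ _).2 (h (f v) ⟨v, hv, rfl⟩)) (f y) (by rw [← map_pow, hy, map_one]) ⟨f k, ⟨k, hk, rfl⟩, by
      intro h
      rw [← map_inv, ← map_inv, ← map_mul, ← map_mul, ← map_mul] at h
      exact hyk (hback _ h)⟩
    obtain ⟨_, ⟨v, hv, rfl⟩, hv1, hvy⟩ := hmain
    apply exists_orderOf_of_quotient E
    refine ⟨f v * f y, orderOf_mul_of ht hc htc ?_ hv1 ?_ ?_ hvy.symm⟩
    · rw [← map_pow]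
      exact (QuotientGroup.eq_one_iff _).2 (hpt v hv)
    · rw [← map_pow, hy, map_one]
    · intro h
      apply hyk
      apply hback
      rw [map_mul, map_mul, map_mul, h, map_inv, h, map_inv]
      have h1 : 1 * f k * 1⁻¹ * (f k)⁻¹ = 1 := by group
      rw [h1]
      exact (C.map f).one_mem
  -- a prime all whose elements centralise `K / C`
  obtain ⟨c, hc, hcS, hcK, hcC⟩ : ∃ c : ℕ, c.Prime ∧ c ∣ Nat.card ↥S ∧ ¬ c ∣ Nat.card ↥K ∧
      ∀ y : G, y ^ c = 1 → ∀ k ∈ K, y * k * y⁻¹ * k⁻¹ ∈ C := by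
    rcases hdich a ha ha3 haK with h1 | h1
    · rcases hdich b hb hb3 hbK with h2 | h2
      · exact absurd ⟨h1, h2⟩ (hab t ht htK)
      · exact ⟨b, hb, hbS, hbK, h2⟩
    · exact ⟨a, ha, haS, haK, h1⟩
  -- the centraliser of `K / C`
  let g : G →* G ⧸ C := QuotientGroup.mk' C
  have hgn : (K.map g).Normal := ‹K.Normal›.map g (QuotientGroup.mk'_surjective C)
  let D : Subgroup G := (centralizer (K.map g : Set (G ⧸ C))).comap g
  have hDn : D.Normal := by
    have : (centralizer (K.map g : Set (G ⧸ C))).Normal := inferInstance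
    infer_instance
  have hD : ∀ x, x ∈ D ↔ ∀ k ∈ K, x * k * x⁻¹ * k⁻¹ ∈ C := by
    intro x
    constructor
    · intro hx k hk
      rw [comm_mod]
      exact ((mem_centralizer_iff.1 hx) (g k) ⟨k, hk, rfl⟩).symm
    · intro hx
      show g x ∈ centralizer (K.map g : Set (G ⧸ C))
      rw [mem_centralizer_iff]
      rintro _ ⟨k, hk, rfl⟩
      exact ((comm_mod C _ _).1 (hx k hk)).symm
  let q : G →* G ⧸ K := QuotientGroup.mk' K
  have hDq : (D.map q).Normal := hDn.map q (QuotientGroup.mk'_surjective K)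
  have hSD : S ≤ D.map q := by
    have h1 : ((D.map q).subgroupOf S).Normal := inferInstance
    rcases h1.eq_bot_or_eq_top with h2 | h2
    · exfalso
      have := Fact.mk hc
      obtain ⟨z, hz⟩ := exists_prime_orderOf_dvd_card' (G := ↥S) c hcS
      have hz' : orderOf (z : G ⧸ K) = c := by rw [Subgroup.orderOf_coe, hz]
      obtain ⟨x, -, hx, hxK, hxz⟩ := exists_lift K hc hcK ⊤ hz' (by
        obtain ⟨w, hw⟩ := QuotientGroup.mk_surjective (z : G ⧸ K)
        exact ⟨w, trivial, hw⟩)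
      have hxS : (x : G ⧸ K) ∈ S := (zpowers_le.2 z.2) hxz
      have h3 : (⟨(x : G ⧸ K), hxS⟩ : ↥S) ∈ (D.map q).subgroupOf S :=
        ⟨x, (hD x).2 (hcC x hx), rfl⟩
      rw [h2, Subgroup.mem_bot] at h3
      exact hxK ((QuotientGroup.eq_one_iff _).1 (congrArg Subtype.val h3))
    · rwa [subgroupOf_eq_top] at h2
  -- a prime of `K / C`
  have hidx : C.relIndex K ≠ 1 := by
    intro h2
    exact absurd (Subgroup.relIndex_eq_one.1 h2) (not_le_of_gt hCK2)
  obtain ⟨s, hs, hsd⟩ := Nat.exists_prime_and_dvd hidx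
  have hcard : Nat.card ↥(K.map g) = C.relIndex K := by
    have h3 := Subgroup.relIndex_ker K g
    rw [QuotientGroup.ker_mk'] at h3
    exact h3.symm
  have hsK : s ∣ Nat.card ↥K := by
    rw [← hcard] at hsd
    exact hsd.trans (Subgroup.card_map_dvd _ _)
  have hf := Fact.mk hs
  obtain ⟨⟨_, w, hw, rfl⟩, hz⟩ := exists_prime_orderOf_dvd_card' (G := ↥(K.map g)) s (by rw [hcard]; exact hsd)
  rw [← Subgroup.orderOf_coe] at hz
  have hw1 : g w ≠ 1 := by
    intro h
    rw [show ((⟨g w, w, hw, rfl⟩ : ↥(K.map g)) : G ⧸ C) = 1 from h, orderOf_one] at hz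
    exact hs.one_lt.ne hz
  have hws : (g w) ^ s = 1 := by
    rw [← hz]
    exact pow_orderOf_eq_one _
  have hfin : ∀ d : ℕ, d.Prime → d ∣ Nat.card ↥S → ¬ d ∣ Nat.card ↥K → ∃ x : G, orderOf x = s * d := by
    intro d hd hdS hdK
    have hsd : s ≠ d := by
      rintro rfl
      exact hdK hsK
    have := Fact.mk hd
    obtain ⟨z, hz⟩ := exists_prime_orderOf_dvd_card' (G := ↥S) d hdS
    have hz' : orderOf (z : G ⧸ K) = d := by rw [Subgroup.orderOf_coe, hz]
    obtain ⟨x, hxD, hx, hxK, -⟩ := exists_lift K hd hdK D hz' (hSD z.2)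
    apply exists_orderOf_of_quotient C
    refine ⟨g w * g x, orderOf_mul_of hs hd hsd hws hw1 ?_ ?_ ?_⟩
    · rw [← map_pow, hx, map_one]
    · intro h
      exact hxK (hCK ((QuotientGroup.eq_one_iff _).1 h))
    · exact ((comm_mod C _ _).1 ((hD x).1 hxD w hw)).symm
  exact hab s hs hsK ⟨hfin a ha haS haK, hfin b hb hbS hbK⟩

/-- **All primes of the radical are top primes** (the form of the task). -/
theorem top_prime {G : Type u} [Group G] [Finite G] (K : Subgroup G) [K.Normal] (hK : Group.IsSolvable ↥K)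
    (S : Subgroup (G ⧸ K)) [S.Normal] (hS : IsSimpleGroup ↥S) (_hna : ¬ IsMulCommutative ↥S) {a b : ℕ} (ha : a.Prime)
    (hb : b.Prime) (ha3 : 3 ∣ a - 1) (hb3 : 3 ∣ b - 1) (haS : a ∣ Nat.card ↥S) (hbS : b ∣ Nat.card ↥S)
    (haK : ¬ a ∣ Nat.card ↥K) (hbK : ¬ b ∣ Nat.card ↥K)
    (hab : ∀ t : ℕ, t.Prime → t ∣ Nat.card ↥K → ¬ ((∃ g : G, orderOf g = t * a) ∧ ∃ g : G, orderOf g = t * b))
    {t : ℕ} (ht : t.Prime) (htK : t ∣ Nat.card ↥K) :
    ∃ (K₁ : Subgroup G) (_ : K₁.Normal), K₁ < K ∧ (∀ x ∈ K, x ^ t ∈ K₁) ∧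
      (∀ x ∈ K, ∀ y ∈ K, x * y * x⁻¹ * y⁻¹ ∈ K₁) :=
  top_prime' K hK S hS ha hb ha3 hb3 haS hbS haK hbK hab ht htK

end Cfsg.Agent.H772.Six.TopPrime
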